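import Groth.Prelude.Def_ArtFun
import Mathlib.RingTheory.Flat.Basic
import Mathlib.RingTheory.Artinian.Ring
import Mathlib.RingTheory.Flat.Tensor
import Mathlib.LinearAlgebra.FreeModule.Basic
import Mathlib.LinearAlgebra.FiniteDimensional.Defs
import Mathlib.LinearAlgebra.Basis.VectorSpace
import Mathlib.LinearAlgebra.FreeModule.Finite.Basic
import Mathlib.RingTheory.HopkinsLevitzki
import Mathlib.RingTheory.Finiteness.Cardinality
import Mathlib.RingTheory.Noetherian.Basic

/-!
Endomorphisms of deformations of a module with scalar endomorphisms.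
-/

set_option autoImplicit false
universe u v w w'

open TensorProduct

namespace Groth.Agent.DefEndScalar

variable {K : Type u} [Field K] {D : Type v} [Ring D] [Algebra K D]
  {E : Type w} [AddCommGroup E] [Module K E] [Module D E] [IsScalarTower K D E]
  {R : Type u} [CommRing R] [Algebra K R] [IsLocalRing R] [IsArtinianRing R]
  {res : R →ₐ[K] K}
  {F : Type w'} [AddCommGroup F] [Module K F] [Module R F] [Module D F]
  [IsScalarTower K R F] [IsScalarTower K D F] [SMulCommClass R D F]

theorem res_eq_zero_iff (hres : Function.Surjective res) (s : R) :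
    res s = 0 ↔ s ∈ IsLocalRing.maximalIdeal R := by
  rw [← IsLocalRing.eq_maximalIdeal (RingHom.ker_isMaximal_of_surjective res.toRingHom hres)]
  rfl

theorem smul_comm' (d : D) (c : K) (y : E) : d • c • y = c • d • y := by
  rw [← algebraMap_smul D c y, ← algebraMap_smul D c (d • y), smul_smul, smul_smul, Algebra.commutes]

/-- multiplication -/
noncomputable def mu (J : Ideal R) : J ⊗[R] F →ₗ[R] F :=
  (TensorProduct.lid R F).toLinearMap ∘ₗ J.subtype.rTensor F

theorem mu_tmul (J : Ideal R) (w : J) (x : F) : mu J (w ⊗ₜ[R] x) = (w : R) • x := by simp [mu]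

theorem mu_injective [Module.Flat R F] (J : Ideal R) : Function.Injective (mu (F := F) J) :=
  (TensorProduct.lid R F).injective.comp
    (Module.Flat.rTensor_preserves_injective_linearMap _ Subtype.val_injective)

theorem range_mu (J : Ideal R) : LinearMap.range (mu (F := F) J) = J • ⊤ := by
  refine le_antisymm ?_ (Submodule.smul_le.2 fun r hr x _ => ⟨(⟨r, hr⟩ : J) ⊗ₜ x, mu_tmul _ _ _⟩)
  rintro _ ⟨z, rfl⟩
  induction z using TensorProduct.induction_on with
  | zero => simp
  | add a b ha hb => rw [map_add]; exact add_mem ha hb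
  | tmul a b => rw [mu_tmul]; exact Submodule.smul_mem_smul a.2 trivial

/-- evaluation against a functional -/
noncomputable def Phi (θ : F →ₗ[D] E) (hθ : ∀ (r : R) (x : F), θ (r • x) = res r • θ x) (J : Ideal R)
    (ξ : J →+ K) (hξ : ∀ (s : R) (w : J), ξ (s • w) = res s * ξ w) : J ⊗[R] F →+ E :=
  TensorProduct.liftAddHom
    (AddMonoidHom.mk' (fun w => AddMonoidHom.mk' (fun x => ξ w • θ x) fun x y => by rw [map_add, smul_add])
      fun w w' => by ext x; simp [add_smul])
    fun s w x => by simp [hξ, hθ, mul_comm (res s), mul_smul]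

theorem Phi_tmul (θ : F →ₗ[D] E) (hθ : ∀ (r : R) (x : F), θ (r • x) = res r • θ x) (J : Ideal R)
    (ξ : J →+ K) (hξ : ∀ (s : R) (w : J), ξ (s • w) = res s * ξ w) (w : J) (x : F) :
    Phi θ hθ J ξ hξ (w ⊗ₜ x) = ξ w • θ x := rfl

theorem Phi_smul (θ : F →ₗ[D] E) (hθ : ∀ (r : R) (x : F), θ (r • x) = res r • θ x) (J : Ideal R)
    (ξ : J →+ K) (hξ : ∀ (s : R) (w : J), ξ (s • w) = res s * ξ w) (s : R) (z : J ⊗[R] F) :
    Phi θ hθ J ξ hξ (s • z) = res s • Phi θ hθ J ξ hξ z := by
  induction z using TensorProduct.induction_on with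
  | zero => simp
  | add a b ha hb => simp [ha, hb]
  | tmul a b => rw [TensorProduct.smul_tmul', Phi_tmul, hξ, Phi_tmul, mul_smul]

theorem exists_step [Module.Flat R F] (hres : Function.Surjective res)
    (hE : ∀ ψ : E →ₗ[D] E, ∃ c : K, ∀ y : E, ψ y = c • y)
    (θ : F →ₗ[D] E) (hθ : ∀ (r : R) (x : F), θ (r • x) = res r • θ x)
    (hsurj : Function.Surjective θ)
    (hker : ∀ x : F, θ x = 0 ↔ x ∈ IsLocalRing.maximalIdeal R • (⊤ : Submodule R F))
    (ψ : F →ₗ[R] F) (hψ : ∀ (d : D) (x : F), ψ (d • x) = d • ψ x) (i : ℕ)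
    (hi : ∀ x, ψ x ∈ IsLocalRing.maximalIdeal R ^ i • (⊤ : Submodule R F)) :
    ∃ r : R, ∀ x, ψ x - r • x ∈ IsLocalRing.maximalIdeal R ^ (i + 1) • (⊤ : Submodule R F) := by
  classical
  let m := IsLocalRing.maximalIdeal R
  let J : Ideal R := m ^ i
  let T : Submodule R J := m • ⊤
  have hresmul : ∀ (s : R) (v : J ⧸ T), s • v = res s • v := by
    intro s v
    obtain ⟨w, rfl⟩ := T.mkQ_surjective v
    rw [← algebraMap_smul R (res s) (T.mkQ w), ← map_smul, ← map_smul]
    refine (Submodule.Quotient.eq T).2 ?_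
    rw [← sub_smul]
    refine Submodule.smul_mem_smul ?_ trivial
    rw [← res_eq_zero_iff hres]
    simp
  haveI : Module.Finite K (J ⧸ T) := by
    obtain ⟨S, hS⟩ := Module.Finite.fg_top (R := R) (M := J ⧸ T)
    refine ⟨⟨S, eq_top_iff.2 fun v hvt => ?_⟩⟩
    clear hvt
    have hv : v ∈ Submodule.span R (S : Set (J ⧸ T)) := hS ▸ trivial
    induction hv using Submodule.span_induction with
    | mem x hx => exact Submodule.subset_span hx
    | zero => exact zero_mem _
    | add x y _ _ hx hy => exact add_mem hx hy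
    | smul s x _ hx => rw [hresmul]; exact Submodule.smul_mem _ _ hx
  let b := Module.Free.chooseBasis K (J ⧸ T)
  let ι := Module.Free.ChooseBasisIndex K (J ⧸ T)
  choose s hs using fun k : ι => T.mkQ_surjective (b k)
  let ξ : ι → J →+ K := fun k => (b.coord k).toAddMonoidHom.comp T.mkQ.toAddMonoidHom
  have hξ : ∀ k (t : R) (w : J), ξ k (t • w) = res t * ξ k w := by
    intro k t w
    change b.coord k (T.mkQ (t • w)) = res t * b.coord k (T.mkQ w)
    rw [map_smul, hresmul, map_smul, smul_eq_mul]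
  let e := LinearEquiv.ofInjective (mu (F := F) J) (mu_injective J)
  let ψ' : F →ₗ[R] J ⊗[R] F := e.symm.toLinearMap ∘ₗ ψ.codRestrict _ (fun x => by
    rw [range_mu]; exact hi x)
  have hψ' : ∀ x, mu J (ψ' x) = ψ x := fun x => by
    change ((e (e.symm _)) : F) = ψ x
    rw [LinearEquiv.apply_symm_apply]; rfl
  let δ : D → F →ₗ[R] F := fun d =>
    { toFun := fun x => d • x
      map_add' := fun x y => smul_add d x y
      map_smul' := fun t x => (smul_comm t d x).symm }
  have hcomm : ∀ d x, ψ' (d • x) = (δ d).lTensor J (ψ' x) := by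
    intro d x
    apply mu_injective J
    rw [hψ', hψ, ← hψ']
    generalize ψ' x = z
    induction z using TensorProduct.induction_on with
    | zero => simp
    | add a b ha hb => simp [ha, hb]
    | tmul a b =>
      rw [mu_tmul, LinearMap.lTensor_tmul, mu_tmul]
      exact (smul_comm (a : R) d b).symm
  have hc : ∀ k, ∃ c : K, ∀ x, Phi θ hθ J (ξ k) (hξ k) (ψ' x) = c • θ x := by
    intro k
    let P := Phi θ hθ J (ξ k) (hξ k)
    have hzero : ∀ x ∈ m • (⊤ : Submodule R F), P (ψ' x) = 0 := by
      intro x hx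
      refine Submodule.smul_induction_on hx (fun t ht y _ => ?_) (fun a c ha hc => ?_)
      · rw [map_smul, Phi_smul, (res_eq_zero_iff hres t).2 ht, zero_smul]
      · rw [map_add, map_add, ha, hc, add_zero]
    have hwd : ∀ x y, θ x = θ y → P (ψ' x) = P (ψ' y) := fun x y h => by
      rw [← sub_eq_zero, ← map_sub, ← map_sub]
      exact hzero _ ((hker _).1 (by rw [map_sub, h, sub_self]))
    have hPD : ∀ (d : D) z, P ((δ d).lTensor J z) = d • P z := by
      intro d z
      induction z using TensorProduct.induction_on with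
      | zero => simp
      | add a b ha hb => simp only [map_add, smul_add, ha, hb]
      | tmul a b =>
        simp only [P, LinearMap.lTensor_tmul, Phi_tmul]
        change ξ k a • θ (d • b) = d • ξ k a • θ b
        rw [map_smul, smul_comm']
    let g : E →ₗ[D] E :=
      { toFun := fun y => P (ψ' (Function.surjInv hsurj y))
        map_add' := fun y y' => by
          rw [← map_add, ← map_add]
          exact hwd _ _ (by simp [Function.surjInv_eq hsurj])
        map_smul' := fun d y => by
          rw [RingHom.id_apply, ← hPD, ← hcomm]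
          exact hwd _ _ (by simp [Function.surjInv_eq hsurj]) }
    obtain ⟨c, hc⟩ := hE g
    exact ⟨c, fun x => by rw [← hc]; exact hwd _ _ (Function.surjInv_eq hsurj _).symm⟩
  choose c hc using hc
  refine ⟨∑ k, c k • (s k : R), fun x => ?_⟩
  let z : J ⊗[R] F := ψ' x - ∑ k, algebraMap K R (c k) • (s k ⊗ₜ[R] x)
  have hz : mu J z = ψ x - (∑ k, c k • (s k : R)) • x := by
    simp only [z, map_sub, map_sum, map_smul, hψ', mu_tmul, Finset.sum_smul, Algebra.smul_def, mul_smul]
  have hzero : ∀ l, Phi θ hθ J (ξ l) (hξ l) z = 0 := by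
    intro l
    simp only [z, map_sub, map_sum, Phi_smul, Phi_tmul, hc, sub_eq_zero]
    have hd : ∀ k, ξ l (s k) = if k = l then 1 else 0 := fun k => by
      change b.coord l (T.mkQ (s k)) = _
      rw [hs, Module.Basis.coord_apply, b.repr_self, Finsupp.single_apply]
    simp [hd]
  rw [← hz]
  have hdec : ∀ z : J ⊗[R] F, ∃ xs : ι → F, (∀ k, Phi θ hθ J (ξ k) (hξ k) z = θ (xs k)) ∧
      mu J z - ∑ k, (s k : R) • xs k ∈ m ^ (i + 1) • (⊤ : Submodule R F) := by
    intro z
    induction z using TensorProduct.induction_on with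
    | zero => exact ⟨fun _ => 0, by simp, by simp⟩
    | add a a' ha ha' =>
      obtain ⟨u, hu, hu'⟩ := ha
      obtain ⟨u', hv, hv'⟩ := ha'
      refine ⟨u + u', fun k => by simp [hu, hv], ?_⟩
      have := add_mem hu' hv'
      convert this using 1
      simp only [map_add, Pi.add_apply, smul_add, Finset.sum_add_distrib]
      abel
    | tmul w y =>
      refine ⟨fun k => algebraMap K R (ξ k w) • y, fun k => by rw [Phi_tmul, hθ, AlgHom.commutes]; rfl, ?_⟩
      have hw : w - ∑ k, algebraMap K R (ξ k w) • s k ∈ T := by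
        rw [← Submodule.Quotient.mk_eq_zero, ← Submodule.mkQ_apply, map_sub, map_sum, sub_eq_zero]
        simp only [map_smul, hs]
        simp only [algebraMap_smul]
        exact (b.sum_repr _).symm
      have hw' : ((w - ∑ k, algebraMap K R (ξ k w) • s k : J) : R) ∈ m ^ (i + 1) := by
        rw [pow_succ']
        refine Submodule.smul_induction_on hw (fun t ht u _ => Ideal.mul_mem_mul ht u.2) (fun a c ha hc => ?_)
        exact add_mem ha hc
      have := Submodule.smul_mem_smul hw' (Submodule.mem_top (x := y))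
      convert this using 1
      simp only [mu_tmul, Submodule.coe_sub, Submodule.coe_sum, Submodule.coe_smul, sub_smul,
        Finset.sum_smul, smul_eq_mul, mul_smul, smul_comm (_ : R) (algebraMap K R _)]
  obtain ⟨xs, hxs, hmem⟩ := hdec z
  rw [← sub_add_cancel (mu J z) (∑ k, (s k : R) • xs k)]
  refine add_mem hmem (sum_mem fun k _ => ?_)
  rw [pow_succ, Submodule.mul_smul]
  exact Submodule.smul_mem_smul (s k).2 ((hker _).1 ((hxs k).symm.trans (hzero k)))

theorem eq_zero_of_forall_smul_eq_zero [Module.Flat R F] [Nontrivial E] (hres : Function.Surjective res)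
    (θ : F →ₗ[D] E) (hθ : ∀ (r : R) (x : F), θ (r • x) = res r • θ x)
    (hsurj : Function.Surjective θ) (r : R) (h : ∀ x : F, r • x = 0) : r = 0 := by
  by_contra hr
  let J : Ideal R := Ideal.span {r}
  choose f hf using fun w : J => Ideal.mem_span_singleton'.1 w.2
  have hwd : ∀ a a' : R, a * r = a' * r → res a = res a' := fun a a' h' => by
    rw [← sub_eq_zero, ← map_sub, res_eq_zero_iff hres, IsLocalRing.mem_maximalIdeal, mem_nonunits_iff]
    intro hu
    exact hr (hu.mul_right_eq_zero.1 (by rw [sub_mul, h', sub_self]))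
  let ξ : J →+ K := AddMonoidHom.mk' (fun w => res (f w)) fun w w' => by
    rw [← map_add]
    exact hwd _ _ (by rw [add_mul, hf, hf, hf]; rfl)
  have hξ : ∀ (s : R) (w : J), ξ (s • w) = res s * ξ w := fun s w => by
    change res (f _) = res s * res (f w)
    rw [← map_mul]
    exact hwd _ _ (by rw [mul_assoc, hf, hf]; rfl)
  obtain ⟨y, hy⟩ := exists_ne (0 : E)
  obtain ⟨x, rfl⟩ := hsurj y
  let w : J := ⟨r, Ideal.mem_span_singleton_self r⟩
  have h0 : (w ⊗ₜ[R] x : J ⊗[R] F) = 0 := mu_injective J (by rw [mu_tmul, map_zero]; exact h x)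
  have h1 := congrArg (Phi θ hθ J ξ hξ) h0
  rw [map_zero, Phi_tmul, show ξ w = 1 by
    change res (f w) = 1
    rw [← map_one res]
    exact hwd _ _ (by rw [hf, one_mul]), one_smul] at h1
  exact hy h1

theorem existsUnique_smul [Module.Flat R F] [Nontrivial E] (hres : Function.Surjective res)
    (hE : ∀ ψ : E →ₗ[D] E, ∃ c : K, ∀ y : E, ψ y = c • y)
    (θ : F →ₗ[D] E) (hθ : ∀ (r : R) (x : F), θ (r • x) = res r • θ x)
    (hsurj : Function.Surjective θ)
    (hker : ∀ x : F, θ x = 0 ↔ x ∈ IsLocalRing.maximalIdeal R • (⊤ : Submodule R F))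
    (φ : F →ₗ[R] F) (hφ : ∀ (d : D) (x : F), φ (d • x) = d • φ x) :
    ∃! r : R, ∀ x : F, φ x = r • x := by
  have key : ∀ i, ∃ r : R, ∀ x, φ x - r • x ∈ IsLocalRing.maximalIdeal R ^ i • (⊤ : Submodule R F) := by
    intro i
    induction i with
    | zero => exact ⟨0, fun x => by rw [pow_zero, Ideal.one_eq_top, Submodule.top_smul]; trivial⟩
    | succ i ih =>
      obtain ⟨r, hr⟩ := ih
      obtain ⟨r', hr'⟩ := exists_step hres hE θ hθ hsurj hker (φ - r • LinearMap.id)
        (fun d x => by
          simp only [LinearMap.sub_apply, LinearMap.smul_apply, LinearMap.id_apply, hφ, smul_sub, smul_comm r d x])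
        i hr
      exact ⟨r + r', fun x => by rw [add_smul, ← sub_sub]; exact hr' x⟩
  obtain ⟨n, hn⟩ := IsArtinianRing.isNilpotent_jacobson_bot (R := R)
  rw [IsLocalRing.jacobson_eq_maximalIdeal ⊥ bot_ne_top] at hn
  obtain ⟨r, hr⟩ := key n
  rw [hn, Ideal.zero_eq_bot] at hr
  simp only [Submodule.bot_smul, Submodule.mem_bot, sub_eq_zero] at hr
  refine ⟨r, hr, fun r' hr' => sub_eq_zero.1 (eq_zero_of_forall_smul_eq_zero hres θ hθ hsurj _ fun x => ?_)⟩
  rw [sub_smul, ← hr x, ← hr' x, sub_self]

end Groth.Agent.DefEndScalar
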